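import Cfsg.Agent.Lib.Helper6.TCD.ONa.NHP0
import Cfsg.Agent.Lib.Helper6.TCD.ONa.NHP1
import Cfsg.Agent.Lib.Helper6.TCD.ONa.NHP2
import Cfsg.Agent.Lib.Helper6.TCD.ONa.NHP3
set_option autoImplicit false
namespace Cfsg.Agent.Lib.Helper6.TCD.ONa
noncomputable def NHT0 (i : Nat) : Nat := Bool.rec (NHP0N62 i) (NHP1N62 i) (Nat.ble 65536 i)
noncomputable def NHT1 (i : Nat) : Nat := Bool.rec (NHP2N62 i) (NHP3N30 i) (Nat.ble 196608 i)
noncomputable def NH (i : Nat) : Nat := Bool.rec (NHT0 i) (NHT1 i) (Nat.ble 131072 i)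
end Cfsg.Agent.Lib.Helper6.TCD.ONa
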