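import Cfsg.Agent.Lib.Helper6.TCD.ONa.SCP0
import Cfsg.Agent.Lib.Helper6.TCD.ONa.SCP1
import Cfsg.Agent.Lib.Helper6.TCD.ONa.SCP2
import Cfsg.Agent.Lib.Helper6.TCD.ONa.SCP3
import Cfsg.Agent.Lib.Helper6.TCD.ONa.SCP4
import Cfsg.Agent.Lib.Helper6.TCD.ONa.SCP5
import Cfsg.Agent.Lib.Helper6.TCD.ONa.SCP6
import Cfsg.Agent.Lib.Helper6.TCD.ONa.SCP7
import Cfsg.Agent.Lib.Helper6.TCD.ONa.SCP8
import Cfsg.Agent.Lib.Helper6.TCD.ONa.SCP9
import Cfsg.Agent.Lib.Helper6.TCD.ONa.SCP10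
import Cfsg.Agent.Lib.Helper6.TCD.ONa.SCP11
import Cfsg.Agent.Lib.Helper6.TCD.ONa.SCP12
import Cfsg.Agent.Lib.Helper6.TCD.ONa.SCP13
import Cfsg.Agent.Lib.Helper6.TCD.ONa.SCP14
import Cfsg.Agent.Lib.Helper6.TCD.ONa.SCP15
import Cfsg.Agent.Lib.Helper6.TCD.ONa.SCP16
import Cfsg.Agent.Lib.Helper6.TCD.ONa.SCP17
import Cfsg.Agent.Lib.Helper6.TCD.ONa.SCP18
import Cfsg.Agent.Lib.Helper6.TCD.ONa.SCP19
import Cfsg.Agent.Lib.Helper6.TCD.ONa.SCP20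
import Cfsg.Agent.Lib.Helper6.TCD.ONa.SCP21
import Cfsg.Agent.Lib.Helper6.TCD.ONa.SCP22
import Cfsg.Agent.Lib.Helper6.TCD.ONa.SCP23
import Cfsg.Agent.Lib.Helper6.TCD.ONa.SCP24
import Cfsg.Agent.Lib.Helper6.TCD.ONa.SCP25
import Cfsg.Agent.Lib.Helper6.TCD.ONa.SCP26
import Cfsg.Agent.Lib.Helper6.TCD.ONa.SCP27
set_option autoImplicit false
namespace Cfsg.Agent.Lib.Helper6.TCD.ONa
noncomputable def SCT0 (i : Nat) : Nat := Bool.rec (SCP0N62 i) (SCP1N62 i) (Nat.ble 65536 i)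
noncomputable def SCT1 (i : Nat) : Nat := Bool.rec (SCP2N62 i) (SCP3N62 i) (Nat.ble 196608 i)
noncomputable def SCT2 (i : Nat) : Nat := Bool.rec (SCT0 i) (SCT1 i) (Nat.ble 131072 i)
noncomputable def SCT3 (i : Nat) : Nat := Bool.rec (SCP4N62 i) (SCP5N62 i) (Nat.ble 327680 i)
noncomputable def SCT4 (i : Nat) : Nat := Bool.rec (SCT3 i) (SCP6N62 i) (Nat.ble 393216 i)
noncomputable def SCT5 (i : Nat) : Nat := Bool.rec (SCT2 i) (SCT4 i) (Nat.ble 262144 i)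
noncomputable def SCT6 (i : Nat) : Nat := Bool.rec (SCP7N62 i) (SCP8N62 i) (Nat.ble 524288 i)
noncomputable def SCT7 (i : Nat) : Nat := Bool.rec (SCP9N62 i) (SCP10N62 i) (Nat.ble 655360 i)
noncomputable def SCT8 (i : Nat) : Nat := Bool.rec (SCT6 i) (SCT7 i) (Nat.ble 589824 i)
noncomputable def SCT9 (i : Nat) : Nat := Bool.rec (SCP11N62 i) (SCP12N62 i) (Nat.ble 786432 i)
noncomputable def SCT10 (i : Nat) : Nat := Bool.rec (SCT9 i) (SCP13N62 i) (Nat.ble 851968 i)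
noncomputable def SCT11 (i : Nat) : Nat := Bool.rec (SCT8 i) (SCT10 i) (Nat.ble 720896 i)
noncomputable def SCT12 (i : Nat) : Nat := Bool.rec (SCT5 i) (SCT11 i) (Nat.ble 458752 i)
noncomputable def SCT13 (i : Nat) : Nat := Bool.rec (SCP14N62 i) (SCP15N62 i) (Nat.ble 983040 i)
noncomputable def SCT14 (i : Nat) : Nat := Bool.rec (SCP16N62 i) (SCP17N62 i) (Nat.ble 1114112 i)
noncomputable def SCT15 (i : Nat) : Nat := Bool.rec (SCT13 i) (SCT14 i) (Nat.ble 1048576 i)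
noncomputable def SCT16 (i : Nat) : Nat := Bool.rec (SCP18N62 i) (SCP19N62 i) (Nat.ble 1245184 i)
noncomputable def SCT17 (i : Nat) : Nat := Bool.rec (SCT16 i) (SCP20N62 i) (Nat.ble 1310720 i)
noncomputable def SCT18 (i : Nat) : Nat := Bool.rec (SCT15 i) (SCT17 i) (Nat.ble 1179648 i)
noncomputable def SCT19 (i : Nat) : Nat := Bool.rec (SCP21N62 i) (SCP22N62 i) (Nat.ble 1441792 i)
noncomputable def SCT20 (i : Nat) : Nat := Bool.rec (SCP23N62 i) (SCP24N62 i) (Nat.ble 1572864 i)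
noncomputable def SCT21 (i : Nat) : Nat := Bool.rec (SCT19 i) (SCT20 i) (Nat.ble 1507328 i)
noncomputable def SCT22 (i : Nat) : Nat := Bool.rec (SCP25N62 i) (SCP26N62 i) (Nat.ble 1703936 i)
noncomputable def SCT23 (i : Nat) : Nat := Bool.rec (SCT22 i) (SCP27N56 i) (Nat.ble 1769472 i)
noncomputable def SCT24 (i : Nat) : Nat := Bool.rec (SCT21 i) (SCT23 i) (Nat.ble 1638400 i)
noncomputable def SCT25 (i : Nat) : Nat := Bool.rec (SCT18 i) (SCT24 i) (Nat.ble 1376256 i)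
noncomputable def SC (i : Nat) : Nat := Bool.rec (SCT12 i) (SCT25 i) (Nat.ble 917504 i)
end Cfsg.Agent.Lib.Helper6.TCD.ONa
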