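set_option autoImplicit false
namespace Cfsg.Agent.Lib.Helper6.TCD.ONa
noncomputable def WI (i : Nat) : Nat := Nat.land (Nat.shiftRight 0x238001c850dc246e1037071b830dc146e0837031b810dc046e00360a1b048d8206c0e36061b028d8106c0636021b008d8006e1435091a840d41c6a0c35051a820d40c6a0435011a800d028681234081a038d018680a34041a018d008680234001a818cc086602330019018c8086402320019048c020600e300618028c0106006300218008c00060122e0817038b8185c0a2e0417018b8085c022e0017848b4205a0e2d0616828b4105a062d0216808b40058122c0816038b018580a2c0416018b00858022c0016818ac0856022b0015018a80854022a0015008a000500226001300890004802220011008800040021e000f008700038021a000d0086000300216000b00850002802120009008400020020e0007008300018000a000400018000800020000 (Nat.mul 17 (Nat.land i 255))) 131071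
end Cfsg.Agent.Lib.Helper6.TCD.ONa
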