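import Cfsg.Agent.Lib.Helper6.TC1
import Cfsg.Agent.Lib.Helper6.TC15
import Cfsg.Agent.Lib.Helper6.TCD.ONa.Par
set_option autoImplicit false
set_option maxRecDepth 1000000
set_option Elab.async false
open Cfsg.Agent.Lib.Helper6.TC
namespace Cfsg.Agent.Lib.Helper6.TCD.ONa
theorem chkN35_r0 : allR (chkName SH NH NC WD n ncol nrw nw tmax) 210000 1000 = true := by decide +kernel
theorem chkN35_r1 : allR (chkName SH NH NC WD n ncol nrw nw tmax) 211000 1000 = true := by decide +kernel
theorem chkN35_r2 : allR (chkName SH NH NC WD n ncol nrw nw tmax) 212000 1000 = true := by decide +kernel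
theorem chkN35_r3 : allR (chkName SH NH NC WD n ncol nrw nw tmax) 213000 1000 = true := by decide +kernel
theorem chkN35_r4 : allR (chkName SH NH NC WD n ncol nrw nw tmax) 214000 1000 = true := by decide +kernel
theorem chkN35_r5 : allR (chkName SH NH NC WD n ncol nrw nw tmax) 215000 1000 = true := by decide +kernel
theorem chkN35 : allR (chkName SH NH NC WD n ncol nrw nw tmax) 210000 6000 = true :=
  allR_of_chain _ 210000 6000 [(210000, 1000), (211000, 1000), (212000, 1000), (213000, 1000), (214000, 1000), (215000, 1000)] (by decide) (by
    intro c hc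
    simp only [List.mem_cons, List.mem_nil_iff, or_false] at hc
    rcases hc with rfl | rfl | rfl | rfl | rfl | rfl
    · exact chkN35_r0
    · exact chkN35_r1
    · exact chkN35_r2
    · exact chkN35_r3
    · exact chkN35_r4
    · exact chkN35_r5)
theorem chkL35_r0 : allR (chkLive SH NH n ncol tmax) 210000 1000 = true := by decide +kernel
theorem chkL35_r1 : allR (chkLive SH NH n ncol tmax) 211000 1000 = true := by decide +kernel
theorem chkL35_r2 : allR (chkLive SH NH n ncol tmax) 212000 1000 = true := by decide +kernel
theorem chkL35_r3 : allR (chkLive SH NH n ncol tmax) 213000 1000 = true := by decide +kernel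
theorem chkL35_r4 : allR (chkLive SH NH n ncol tmax) 214000 1000 = true := by decide +kernel
theorem chkL35_r5 : allR (chkLive SH NH n ncol tmax) 215000 1000 = true := by decide +kernel
theorem chkL35 : allR (chkLive SH NH n ncol tmax) 210000 6000 = true :=
  allR_of_chain _ 210000 6000 [(210000, 1000), (211000, 1000), (212000, 1000), (213000, 1000), (214000, 1000), (215000, 1000)] (by decide) (by
    intro c hc
    simp only [List.mem_cons, List.mem_nil_iff, or_false] at hc
    rcases hc with rfl | rfl | rfl | rfl | rfl | rfl
    · exact chkL35_r0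
    · exact chkL35_r1
    · exact chkL35_r2
    · exact chkL35_r3
    · exact chkL35_r4
    · exact chkL35_r5)
end Cfsg.Agent.Lib.Helper6.TCD.ONa
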