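import Cfsg.Agent.Lib.Helper6.TC1
import Cfsg.Agent.Lib.Helper6.TC15
import Cfsg.Agent.Lib.Helper6.TCD.ONa.Par
set_option autoImplicit false
set_option maxRecDepth 1000000
set_option Elab.async false
open Cfsg.Agent.Lib.Helper6.TC
namespace Cfsg.Agent.Lib.Helper6.TCD.ONa
theorem chkN36_r0 : allR (chkName SH NH NC WD n ncol nrw nw tmax) 216000 1000 = true := by decide +kernel
theorem chkN36_r1 : allR (chkName SH NH NC WD n ncol nrw nw tmax) 217000 1000 = true := by decide +kernel
theorem chkN36_r2 : allR (chkName SH NH NC WD n ncol nrw nw tmax) 218000 1000 = true := by decide +kernel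
theorem chkN36_r3 : allR (chkName SH NH NC WD n ncol nrw nw tmax) 219000 1000 = true := by decide +kernel
theorem chkN36_r4 : allR (chkName SH NH NC WD n ncol nrw nw tmax) 220000 1000 = true := by decide +kernel
theorem chkN36_r5 : allR (chkName SH NH NC WD n ncol nrw nw tmax) 221000 1000 = true := by decide +kernel
theorem chkN36 : allR (chkName SH NH NC WD n ncol nrw nw tmax) 216000 6000 = true :=
  allR_of_chain _ 216000 6000 [(216000, 1000), (217000, 1000), (218000, 1000), (219000, 1000), (220000, 1000), (221000, 1000)] (by decide) (by
    intro c hc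
    simp only [List.mem_cons, List.mem_nil_iff, or_false] at hc
    rcases hc with rfl | rfl | rfl | rfl | rfl | rfl
    · exact chkN36_r0
    · exact chkN36_r1
    · exact chkN36_r2
    · exact chkN36_r3
    · exact chkN36_r4
    · exact chkN36_r5)
theorem chkL36_r0 : allR (chkLive SH NH n ncol tmax) 216000 1000 = true := by decide +kernel
theorem chkL36_r1 : allR (chkLive SH NH n ncol tmax) 217000 1000 = true := by decide +kernel
theorem chkL36_r2 : allR (chkLive SH NH n ncol tmax) 218000 1000 = true := by decide +kernel
theorem chkL36_r3 : allR (chkLive SH NH n ncol tmax) 219000 1000 = true := by decide +kernel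
theorem chkL36_r4 : allR (chkLive SH NH n ncol tmax) 220000 1000 = true := by decide +kernel
theorem chkL36_r5 : allR (chkLive SH NH n ncol tmax) 221000 1000 = true := by decide +kernel
theorem chkL36 : allR (chkLive SH NH n ncol tmax) 216000 6000 = true :=
  allR_of_chain _ 216000 6000 [(216000, 1000), (217000, 1000), (218000, 1000), (219000, 1000), (220000, 1000), (221000, 1000)] (by decide) (by
    intro c hc
    simp only [List.mem_cons, List.mem_nil_iff, or_false] at hc
    rcases hc with rfl | rfl | rfl | rfl | rfl | rfl
    · exact chkL36_r0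
    · exact chkL36_r1
    · exact chkL36_r2
    · exact chkL36_r3
    · exact chkL36_r4
    · exact chkL36_r5)
end Cfsg.Agent.Lib.Helper6.TCD.ONa
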