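import Cfsg.Agent.Lib.Helper6.TC11
import Cfsg.Agent.Lib.Helper6.TC15
import Cfsg.Agent.Lib.Helper6.TCD.ONa.Par
set_option autoImplicit false
set_option maxRecDepth 1000000
set_option Elab.async false
open Cfsg.Agent.Lib.Helper6.TC
namespace Cfsg.Agent.Lib.Helper6.TCD.ONa
theorem chkP6_r0 : allR (fun p => band (Nat.blt (P6 p) 122760) (Nat.beq (P6 (P6 p)) p)) 0 10000 = true := by decide +kernel
theorem chkP6_r1 : allR (fun p => band (Nat.blt (P6 p) 122760) (Nat.beq (P6 (P6 p)) p)) 10000 10000 = true := by decide +kernel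
theorem chkP6_r2 : allR (fun p => band (Nat.blt (P6 p) 122760) (Nat.beq (P6 (P6 p)) p)) 20000 10000 = true := by decide +kernel
theorem chkP6_r3 : allR (fun p => band (Nat.blt (P6 p) 122760) (Nat.beq (P6 (P6 p)) p)) 30000 10000 = true := by decide +kernel
theorem chkP6_r4 : allR (fun p => band (Nat.blt (P6 p) 122760) (Nat.beq (P6 (P6 p)) p)) 40000 10000 = true := by decide +kernel
theorem chkP6_r5 : allR (fun p => band (Nat.blt (P6 p) 122760) (Nat.beq (P6 (P6 p)) p)) 50000 10000 = true := by decide +kernel
theorem chkP6_r6 : allR (fun p => band (Nat.blt (P6 p) 122760) (Nat.beq (P6 (P6 p)) p)) 60000 10000 = true := by decide +kernel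
theorem chkP6_r7 : allR (fun p => band (Nat.blt (P6 p) 122760) (Nat.beq (P6 (P6 p)) p)) 70000 10000 = true := by decide +kernel
theorem chkP6_r8 : allR (fun p => band (Nat.blt (P6 p) 122760) (Nat.beq (P6 (P6 p)) p)) 80000 10000 = true := by decide +kernel
theorem chkP6_r9 : allR (fun p => band (Nat.blt (P6 p) 122760) (Nat.beq (P6 (P6 p)) p)) 90000 10000 = true := by decide +kernel
theorem chkP6_r10 : allR (fun p => band (Nat.blt (P6 p) 122760) (Nat.beq (P6 (P6 p)) p)) 100000 10000 = true := by decide +kernel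
theorem chkP6_r11 : allR (fun p => band (Nat.blt (P6 p) 122760) (Nat.beq (P6 (P6 p)) p)) 110000 10000 = true := by decide +kernel
theorem chkP6_r12 : allR (fun p => band (Nat.blt (P6 p) 122760) (Nat.beq (P6 (P6 p)) p)) 120000 2760 = true := by decide +kernel
theorem chkP6 : chkCol P6 P6 122760 = true :=
  allB_of_chain _ 122760 [(0, 10000), (10000, 10000), (20000, 10000), (30000, 10000), (40000, 10000), (50000, 10000), (60000, 10000), (70000, 10000), (80000, 10000), (90000, 10000), (100000, 10000), (110000, 10000), (120000, 2760)] (by decide) (by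
    intro c hc
    simp only [List.mem_cons, List.mem_nil_iff, or_false] at hc
    rcases hc with rfl | rfl | rfl | rfl | rfl | rfl | rfl | rfl | rfl | rfl | rfl | rfl | rfl
    · exact chkP6_r0
    · exact chkP6_r1
    · exact chkP6_r2
    · exact chkP6_r3
    · exact chkP6_r4
    · exact chkP6_r5
    · exact chkP6_r6
    · exact chkP6_r7
    · exact chkP6_r8
    · exact chkP6_r9
    · exact chkP6_r10
    · exact chkP6_r11
    · exact chkP6_r12)
end Cfsg.Agent.Lib.Helper6.TCD.ONa
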