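import Cfsg.Agent.Lib.Helper6.TC13
import Cfsg.Agent.Lib.Helper6.TCD.ONa.Par
set_option autoImplicit false
set_option maxRecDepth 1000000
set_option Elab.async false
open Cfsg.Agent.Lib.Helper6.TC
namespace Cfsg.Agent.Lib.Helper6.TCD.ONa
theorem chkR24_5 : chkFix R24 109671 13089 = true := by decide +kernel
theorem chkQ25_0 : chkEqF Q25 U25 0 23822 = true := by decide +kernel
end Cfsg.Agent.Lib.Helper6.TCD.ONa
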