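import Cfsg.Agent.Lib.Helper6.TCD.ONa.CS0
import Cfsg.Agent.Lib.Helper6.TCD.ONa.CS1
import Cfsg.Agent.Lib.Helper6.TCD.ONa.CS2
import Cfsg.Agent.Lib.Helper6.TCD.ONa.CS3
import Cfsg.Agent.Lib.Helper6.TCD.ONa.CS4
import Cfsg.Agent.Lib.Helper6.TCD.ONa.CS5
import Cfsg.Agent.Lib.Helper6.TCD.ONa.CS6
import Cfsg.Agent.Lib.Helper6.TCD.ONa.CS7
import Cfsg.Agent.Lib.Helper6.TCD.ONa.CS8
import Cfsg.Agent.Lib.Helper6.TCD.ONa.CS9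
import Cfsg.Agent.Lib.Helper6.TCD.ONa.CS10
import Cfsg.Agent.Lib.Helper6.TCD.ONa.CS11
import Cfsg.Agent.Lib.Helper6.TCD.ONa.CS12
import Cfsg.Agent.Lib.Helper6.TCD.ONa.CS13
import Cfsg.Agent.Lib.Helper6.TCD.ONa.CS14
import Cfsg.Agent.Lib.Helper6.TCD.ONa.CS15
import Cfsg.Agent.Lib.Helper6.TCD.ONa.CS16
import Cfsg.Agent.Lib.Helper6.TCD.ONa.CS17
import Cfsg.Agent.Lib.Helper6.TCD.ONa.CS18
import Cfsg.Agent.Lib.Helper6.TCD.ONa.CS19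
import Cfsg.Agent.Lib.Helper6.TCD.ONa.CS20
import Cfsg.Agent.Lib.Helper6.TCD.ONa.CS21
import Cfsg.Agent.Lib.Helper6.TCD.ONa.CS22
import Cfsg.Agent.Lib.Helper6.TCD.ONa.CS23
import Cfsg.Agent.Lib.Helper6.TCD.ONa.CS24
import Cfsg.Agent.Lib.Helper6.TCD.ONa.CS25
import Cfsg.Agent.Lib.Helper6.TCD.ONa.CS26
import Cfsg.Agent.Lib.Helper6.TCD.ONa.CS27
import Cfsg.Agent.Lib.Helper6.TCD.ONa.CS28
import Cfsg.Agent.Lib.Helper6.TCD.ONa.CS29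
import Cfsg.Agent.Lib.Helper6.TCD.ONa.CS30
import Cfsg.Agent.Lib.Helper6.TCD.ONa.CS31
import Cfsg.Agent.Lib.Helper6.TCD.ONa.CS32
import Cfsg.Agent.Lib.Helper6.TCD.ONa.CS33
import Cfsg.Agent.Lib.Helper6.TCD.ONa.CS34
import Cfsg.Agent.Lib.Helper6.TCD.ONa.CS35
import Cfsg.Agent.Lib.Helper6.TCD.ONa.CS36
import Cfsg.Agent.Lib.Helper6.TCD.ONa.CS37
import Cfsg.Agent.Lib.Helper6.TCD.ONa.CS38
import Cfsg.Agent.Lib.Helper6.TCD.ONa.CS39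
import Cfsg.Agent.Lib.Helper6.TCD.ONa.CS40
import Cfsg.Agent.Lib.Helper6.TCD.ONa.CS41
import Cfsg.Agent.Lib.Helper6.TCD.ONa.CS42
import Cfsg.Agent.Lib.Helper6.TCD.ONa.CS43
import Cfsg.Agent.Lib.Helper6.TCD.ONa.CS44
import Cfsg.Agent.Lib.Helper6.TCD.ONa.CS45
import Cfsg.Agent.Lib.Helper6.TCD.ONa.CS46
import Cfsg.Agent.Lib.Helper6.TCD.ONa.CS47
import Cfsg.Agent.Lib.Helper6.TCD.ONa.CS48
import Cfsg.Agent.Lib.Helper6.TCD.ONa.CS49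
import Cfsg.Agent.Lib.Helper6.TCD.ONa.CS50
import Cfsg.Agent.Lib.Helper6.TCD.ONa.CS51
import Cfsg.Agent.Lib.Helper6.TCD.ONa.CS52
import Cfsg.Agent.Lib.Helper6.TCD.ONa.CS53
import Cfsg.Agent.Lib.Helper6.TCD.ONa.CS54
import Cfsg.Agent.Lib.Helper6.TCD.ONa.CS55
import Cfsg.Agent.Lib.Helper6.TCD.ONa.CS56
import Cfsg.Agent.Lib.Helper6.TCD.ONa.CS57
import Cfsg.Agent.Lib.Helper6.TCD.ONa.CS58
import Cfsg.Agent.Lib.Helper6.TCD.ONa.CS59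
import Cfsg.Agent.Lib.Helper6.TCD.ONa.CS60
import Cfsg.Agent.Lib.Helper6.TCD.ONa.CS61
import Cfsg.Agent.Lib.Helper6.TCD.ONa.CS62
import Cfsg.Agent.Lib.Helper6.TCD.ONa.CS63
import Cfsg.Agent.Lib.Helper6.TCD.ONa.CS64
import Cfsg.Agent.Lib.Helper6.TCD.ONa.CS65
import Cfsg.Agent.Lib.Helper6.TCD.ONa.CS66
import Cfsg.Agent.Lib.Helper6.TCD.ONa.CS67
import Cfsg.Agent.Lib.Helper6.TCD.ONa.CS68
import Cfsg.Agent.Lib.Helper6.TCD.ONa.CS69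
import Cfsg.Agent.Lib.Helper6.TCD.ONa.CS70
import Cfsg.Agent.Lib.Helper6.TCD.ONa.CS71
import Cfsg.Agent.Lib.Helper6.TCD.ONa.CS72
import Cfsg.Agent.Lib.Helper6.TCD.ONa.CS73
import Cfsg.Agent.Lib.Helper6.TCD.ONa.CS74
import Cfsg.Agent.Lib.Helper6.TCD.ONa.CS75
import Cfsg.Agent.Lib.Helper6.TCD.ONa.CS76
import Cfsg.Agent.Lib.Helper6.TCD.ONa.CS77
import Cfsg.Agent.Lib.Helper6.TCD.ONa.CS78
import Cfsg.Agent.Lib.Helper6.TCD.ONa.CS79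
import Cfsg.Agent.Lib.Helper6.TCD.ONa.CS80
import Cfsg.Agent.Lib.Helper6.TCD.ONa.CS81
import Cfsg.Agent.Lib.Helper6.TCD.ONa.CS82
import Cfsg.Agent.Lib.Helper6.TCD.ONa.CS83
import Cfsg.Agent.Lib.Helper6.TCD.ONa.CS84
import Cfsg.Agent.Lib.Helper6.TCD.ONa.CS85
import Cfsg.Agent.Lib.Helper6.TCD.ONa.CS86
import Cfsg.Agent.Lib.Helper6.TCD.ONa.CS87
import Cfsg.Agent.Lib.Helper6.TCD.ONa.CS88
import Cfsg.Agent.Lib.Helper6.TCD.ONa.CS89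
import Cfsg.Agent.Lib.Helper6.TCD.ONa.CS90
import Cfsg.Agent.Lib.Helper6.TCD.ONa.CS91
import Cfsg.Agent.Lib.Helper6.TCD.ONa.CS92
import Cfsg.Agent.Lib.Helper6.TCD.ONa.CS93
import Cfsg.Agent.Lib.Helper6.TCD.ONa.CS94
import Cfsg.Agent.Lib.Helper6.TCD.ONa.CS95
import Cfsg.Agent.Lib.Helper6.TCD.ONa.CS96
import Cfsg.Agent.Lib.Helper6.TCD.ONa.CS97
import Cfsg.Agent.Lib.Helper6.TCD.ONa.CS98
import Cfsg.Agent.Lib.Helper6.TCD.ONa.CS99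
import Cfsg.Agent.Lib.Helper6.TCD.ONa.CS100
import Cfsg.Agent.Lib.Helper6.TCD.ONa.CS101
import Cfsg.Agent.Lib.Helper6.TCD.ONa.CS102
import Cfsg.Agent.Lib.Helper6.TCD.ONa.CS103
import Cfsg.Agent.Lib.Helper6.TCD.ONa.CS104
import Cfsg.Agent.Lib.Helper6.TCD.ONa.CS105
import Cfsg.Agent.Lib.Helper6.TCD.ONa.CS106
import Cfsg.Agent.Lib.Helper6.TCD.ONa.CS107
import Cfsg.Agent.Lib.Helper6.TCD.ONa.CS108
import Cfsg.Agent.Lib.Helper6.TCD.ONa.CS109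
import Cfsg.Agent.Lib.Helper6.TCD.ONa.CS110
import Cfsg.Agent.Lib.Helper6.TCD.ONa.CS111
import Cfsg.Agent.Lib.Helper6.TCD.ONa.CS112
import Cfsg.Agent.Lib.Helper6.TCD.ONa.CS113
import Cfsg.Agent.Lib.Helper6.TCD.ONa.CS114
import Cfsg.Agent.Lib.Helper6.TCD.ONa.CS115
import Cfsg.Agent.Lib.Helper6.TCD.ONa.CS116
import Cfsg.Agent.Lib.Helper6.TCD.ONa.CS117
import Cfsg.Agent.Lib.Helper6.TCD.ONa.CS118
import Cfsg.Agent.Lib.Helper6.TCD.ONa.CS119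
import Cfsg.Agent.Lib.Helper6.TCD.ONa.CS120
import Cfsg.Agent.Lib.Helper6.TCD.ONa.CS121
import Cfsg.Agent.Lib.Helper6.TCD.ONa.CS122
import Cfsg.Agent.Lib.Helper6.TCD.ONa.CS123
import Cfsg.Agent.Lib.Helper6.TCD.ONa.CS124
import Cfsg.Agent.Lib.Helper6.TCD.ONa.CS125
import Cfsg.Agent.Lib.Helper6.TCD.ONa.CS126
import Cfsg.Agent.Lib.Helper6.TCD.ONa.CS127
import Cfsg.Agent.Lib.Helper6.TCD.ONa.CS128
import Cfsg.Agent.Lib.Helper6.TCD.ONa.CS129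
import Cfsg.Agent.Lib.Helper6.TCD.ONa.CS130
import Cfsg.Agent.Lib.Helper6.TCD.ONa.CS131
import Cfsg.Agent.Lib.Helper6.TCD.ONa.CS132
import Cfsg.Agent.Lib.Helper6.TCD.ONa.CS133
import Cfsg.Agent.Lib.Helper6.TCD.ONa.CS134
import Cfsg.Agent.Lib.Helper6.TCD.ONa.CS135
import Cfsg.Agent.Lib.Helper6.TCD.ONa.CS136
import Cfsg.Agent.Lib.Helper6.TCD.ONa.CS137
import Cfsg.Agent.Lib.Helper6.TCD.ONa.CS138
import Cfsg.Agent.Lib.Helper6.TCD.ONa.CS139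
import Cfsg.Agent.Lib.Helper6.TCD.ONa.CS140
import Cfsg.Agent.Lib.Helper6.TCD.ONa.CS141
import Cfsg.Agent.Lib.Helper6.TCD.ONa.CS142
import Cfsg.Agent.Lib.Helper6.TCD.ONa.CS143
import Cfsg.Agent.Lib.Helper6.TCD.ONa.CS144
import Cfsg.Agent.Lib.Helper6.TCD.ONa.CS145
import Cfsg.Agent.Lib.Helper6.TCD.ONa.CS146
import Cfsg.Agent.Lib.Helper6.TCD.ONa.CS147
import Cfsg.Agent.Lib.Helper6.TCD.ONa.CS148
import Cfsg.Agent.Lib.Helper6.TCD.ONa.CS149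
import Cfsg.Agent.Lib.Helper6.TCD.ONa.CS150
import Cfsg.Agent.Lib.Helper6.TCD.ONa.CS151
import Cfsg.Agent.Lib.Helper6.TCD.ONa.CS152
import Cfsg.Agent.Lib.Helper6.TCD.ONa.CS153
import Cfsg.Agent.Lib.Helper6.TCD.ONa.CS154
import Cfsg.Agent.Lib.Helper6.TCD.ONa.CS155
import Cfsg.Agent.Lib.Helper6.TCD.ONa.CS156
import Cfsg.Agent.Lib.Helper6.TCD.ONa.CS157
import Cfsg.Agent.Lib.Helper6.TCD.ONa.CS158
import Cfsg.Agent.Lib.Helper6.TCD.ONa.CS159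
import Cfsg.Agent.Lib.Helper6.TCD.ONa.CS160
import Cfsg.Agent.Lib.Helper6.TCD.ONa.CS161
import Cfsg.Agent.Lib.Helper6.TCD.ONa.CS162
import Cfsg.Agent.Lib.Helper6.TCD.ONa.CS163
import Cfsg.Agent.Lib.Helper6.TCD.ONa.CS164
import Cfsg.Agent.Lib.Helper6.TCD.ONa.CS165
import Cfsg.Agent.Lib.Helper6.TCD.ONa.CS166
import Cfsg.Agent.Lib.Helper6.TCD.ONa.CS167
import Cfsg.Agent.Lib.Helper6.TCD.ONa.CS168
import Cfsg.Agent.Lib.Helper6.TCD.ONa.CS169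
import Cfsg.Agent.Lib.Helper6.TCD.ONa.CS170
import Cfsg.Agent.Lib.Helper6.TCD.ONa.CS171
import Cfsg.Agent.Lib.Helper6.TCD.ONa.CS172
import Cfsg.Agent.Lib.Helper6.TCD.ONa.CS173
import Cfsg.Agent.Lib.Helper6.TCD.ONa.CS174
import Cfsg.Agent.Lib.Helper6.TCD.ONa.CS175
import Cfsg.Agent.Lib.Helper6.TCD.ONa.CS176
import Cfsg.Agent.Lib.Helper6.TCD.ONa.CS177
import Cfsg.Agent.Lib.Helper6.TCD.ONa.CS178
import Cfsg.Agent.Lib.Helper6.TCD.ONa.CS179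
import Cfsg.Agent.Lib.Helper6.TCD.ONa.CS180
import Cfsg.Agent.Lib.Helper6.TCD.ONa.CS181
import Cfsg.Agent.Lib.Helper6.TCD.ONa.CS182
import Cfsg.Agent.Lib.Helper6.TCD.ONa.CS183
import Cfsg.Agent.Lib.Helper6.TCD.ONa.CS184
import Cfsg.Agent.Lib.Helper6.TCD.ONa.CS185
import Cfsg.Agent.Lib.Helper6.TCD.ONa.CS186
import Cfsg.Agent.Lib.Helper6.TCD.ONa.CS187
import Cfsg.Agent.Lib.Helper6.TCD.ONa.CS188
import Cfsg.Agent.Lib.Helper6.TCD.ONa.CS189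
import Cfsg.Agent.Lib.Helper6.TCD.ONa.CS190
import Cfsg.Agent.Lib.Helper6.TCD.ONa.CS191
import Cfsg.Agent.Lib.Helper6.TCD.ONa.CS192
import Cfsg.Agent.Lib.Helper6.TCD.ONa.CS193
import Cfsg.Agent.Lib.Helper6.TCD.ONa.CS194
import Cfsg.Agent.Lib.Helper6.TCD.ONa.CS195
import Cfsg.Agent.Lib.Helper6.TCD.ONa.CS196
import Cfsg.Agent.Lib.Helper6.TCD.ONa.CS197
import Cfsg.Agent.Lib.Helper6.TCD.ONa.CS198
import Cfsg.Agent.Lib.Helper6.TCD.ONa.CS199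
import Cfsg.Agent.Lib.Helper6.TCD.ONa.CS200
import Cfsg.Agent.Lib.Helper6.TCD.ONa.CS201
import Cfsg.Agent.Lib.Helper6.TCD.ONa.CS202
import Cfsg.Agent.Lib.Helper6.TCD.ONa.CS203
import Cfsg.Agent.Lib.Helper6.TCD.ONa.CS204
import Cfsg.Agent.Lib.Helper6.TCD.ONa.CS205
import Cfsg.Agent.Lib.Helper6.TCD.ONa.CS206
import Cfsg.Agent.Lib.Helper6.TCD.ONa.CS207
import Cfsg.Agent.Lib.Helper6.TCD.ONa.CS208
import Cfsg.Agent.Lib.Helper6.TCD.ONa.CS209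
import Cfsg.Agent.Lib.Helper6.TCD.ONa.CS210
import Cfsg.Agent.Lib.Helper6.TCD.ONa.CS211
import Cfsg.Agent.Lib.Helper6.TCD.ONa.CS212
import Cfsg.Agent.Lib.Helper6.TCD.ONa.CS213
import Cfsg.Agent.Lib.Helper6.TCD.ONa.CS214
import Cfsg.Agent.Lib.Helper6.TCD.ONa.CS215
import Cfsg.Agent.Lib.Helper6.TCD.ONa.CS216
import Cfsg.Agent.Lib.Helper6.TCD.ONa.CS217
import Cfsg.Agent.Lib.Helper6.TCD.ONa.CS218
import Cfsg.Agent.Lib.Helper6.TCD.ONa.CS219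
import Cfsg.Agent.Lib.Helper6.TCD.ONa.CS220
import Cfsg.Agent.Lib.Helper6.TCD.ONa.CS221
import Cfsg.Agent.Lib.Helper6.TCD.ONa.CS222
import Cfsg.Agent.Lib.Helper6.TCD.ONa.CS223
import Cfsg.Agent.Lib.Helper6.TCD.ONa.CS224
import Cfsg.Agent.Lib.Helper6.TCD.ONa.CS225
import Cfsg.Agent.Lib.Helper6.TCD.ONa.CS226
import Cfsg.Agent.Lib.Helper6.TCD.ONa.CS227
import Cfsg.Agent.Lib.Helper6.TCD.ONa.CS228
import Cfsg.Agent.Lib.Helper6.TCD.ONa.CN0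
import Cfsg.Agent.Lib.Helper6.TCD.ONa.CN1
import Cfsg.Agent.Lib.Helper6.TCD.ONa.CN2
import Cfsg.Agent.Lib.Helper6.TCD.ONa.CN3
import Cfsg.Agent.Lib.Helper6.TCD.ONa.CN4
import Cfsg.Agent.Lib.Helper6.TCD.ONa.CN5
import Cfsg.Agent.Lib.Helper6.TCD.ONa.CN6
import Cfsg.Agent.Lib.Helper6.TCD.ONa.CN7
import Cfsg.Agent.Lib.Helper6.TCD.ONa.CN8
import Cfsg.Agent.Lib.Helper6.TCD.ONa.CN9
import Cfsg.Agent.Lib.Helper6.TCD.ONa.CN10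
import Cfsg.Agent.Lib.Helper6.TCD.ONa.CN11
import Cfsg.Agent.Lib.Helper6.TCD.ONa.CN12
import Cfsg.Agent.Lib.Helper6.TCD.ONa.CN13
import Cfsg.Agent.Lib.Helper6.TCD.ONa.CN14
import Cfsg.Agent.Lib.Helper6.TCD.ONa.CN15
import Cfsg.Agent.Lib.Helper6.TCD.ONa.CN16
import Cfsg.Agent.Lib.Helper6.TCD.ONa.CN17
import Cfsg.Agent.Lib.Helper6.TCD.ONa.CN18
import Cfsg.Agent.Lib.Helper6.TCD.ONa.CN19
import Cfsg.Agent.Lib.Helper6.TCD.ONa.CN20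
import Cfsg.Agent.Lib.Helper6.TCD.ONa.CN21
import Cfsg.Agent.Lib.Helper6.TCD.ONa.CN22
import Cfsg.Agent.Lib.Helper6.TCD.ONa.CN23
import Cfsg.Agent.Lib.Helper6.TCD.ONa.CN24
import Cfsg.Agent.Lib.Helper6.TCD.ONa.CN25
import Cfsg.Agent.Lib.Helper6.TCD.ONa.CN26
import Cfsg.Agent.Lib.Helper6.TCD.ONa.CN27
import Cfsg.Agent.Lib.Helper6.TCD.ONa.CN28
import Cfsg.Agent.Lib.Helper6.TCD.ONa.CN29
import Cfsg.Agent.Lib.Helper6.TCD.ONa.CN30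
import Cfsg.Agent.Lib.Helper6.TCD.ONa.CN31
import Cfsg.Agent.Lib.Helper6.TCD.ONa.CN32
import Cfsg.Agent.Lib.Helper6.TCD.ONa.CN33
import Cfsg.Agent.Lib.Helper6.TCD.ONa.CN34
import Cfsg.Agent.Lib.Helper6.TCD.ONa.CN35
import Cfsg.Agent.Lib.Helper6.TCD.ONa.CN36
import Cfsg.Agent.Lib.Helper6.TCD.ONa.CN37
import Cfsg.Agent.Lib.Helper6.TCD.ONa.CN38
import Cfsg.Agent.Lib.Helper6.TCD.ONa.CC
import Cfsg.Agent.Lib.Helper6.TCD.ONa.CPa0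
import Cfsg.Agent.Lib.Helper6.TCD.ONa.CPa1
import Cfsg.Agent.Lib.Helper6.TCD.ONa.CPa2
import Cfsg.Agent.Lib.Helper6.TCD.ONa.CPa3
import Cfsg.Agent.Lib.Helper6.TCD.ONa.CPa4
import Cfsg.Agent.Lib.Helper6.TCD.ONa.CPa5
import Cfsg.Agent.Lib.Helper6.TCD.ONa.CPa6
import Cfsg.Agent.Lib.Helper6.TCD.ONa.CPa7
import Cfsg.Agent.Lib.Helper6.TCD.ONa.CPb
import Cfsg.Agent.Lib.Helper6.TCD.ONa.CPc0
import Cfsg.Agent.Lib.Helper6.TCD.ONa.CPc1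
import Cfsg.Agent.Lib.Helper6.TCD.ONa.CPc2
import Cfsg.Agent.Lib.Helper6.TCD.ONa.CPc3
import Cfsg.Agent.Lib.Helper6.TCD.ONa.CPc4
import Cfsg.Agent.Lib.Helper6.TCD.ONa.CPc5
import Cfsg.Agent.Lib.Helper6.TCD.ONa.CR0
import Cfsg.Agent.Lib.Helper6.TCD.ONa.CR1
import Cfsg.Agent.Lib.Helper6.TCD.ONa.CR2
import Cfsg.Agent.Lib.Helper6.TCD.ONa.CR3
import Cfsg.Agent.Lib.Helper6.TCD.ONa.CR4
import Cfsg.Agent.Lib.Helper6.TCD.ONa.CR5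
import Cfsg.Agent.Lib.Helper6.TCD.ONa.CR6
import Cfsg.Agent.Lib.Helper6.TCD.ONa.CR7
import Cfsg.Agent.Lib.Helper6.TCD.ONa.CR8
import Cfsg.Agent.Lib.Helper6.TCD.ONa.CR9
import Cfsg.Agent.Lib.Helper6.TCD.ONa.CR10
import Cfsg.Agent.Lib.Helper6.TCD.ONa.CR11
import Cfsg.Agent.Lib.Helper6.TCD.ONa.CR12
import Cfsg.Agent.Lib.Helper6.TCD.ONa.CR13
import Cfsg.Agent.Lib.Helper6.TCD.ONa.CR14
import Cfsg.Agent.Lib.Helper6.TCD.ONa.CR15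
import Cfsg.Agent.Lib.Helper6.TCD.ONa.CR16
import Cfsg.Agent.Lib.Helper6.TCD.ONa.CR17
import Cfsg.Agent.Lib.Helper6.TCD.ONa.CR18
import Cfsg.Agent.Lib.Helper6.TCD.ONa.CR19
import Cfsg.Agent.Lib.Helper6.TCD.ONa.CR20
import Cfsg.Agent.Lib.Helper6.TCD.ONa.CR21
import Cfsg.Agent.Lib.Helper6.TCD.ONa.CR22
import Cfsg.Agent.Lib.Helper6.TCD.ONa.CR23
import Cfsg.Agent.Lib.Helper6.TCD.ONa.CR24
import Cfsg.Agent.Lib.Helper6.TCD.ONa.CR25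
import Cfsg.Agent.Lib.Helper6.TCD.ONa.CR26
import Cfsg.Agent.Lib.Helper6.TCD.ONa.CR27
import Cfsg.Agent.Lib.Helper6.TCD.ONa.CR28
import Cfsg.Agent.Lib.Helper6.TCD.ONa.CR29
import Cfsg.Agent.Lib.Helper6.TCD.ONa.CR30
import Cfsg.Agent.Lib.Helper6.TCD.ONa.CR31
import Cfsg.Agent.Lib.Helper6.TCD.ONa.CR32
import Cfsg.Agent.Lib.Helper6.TCD.ONa.CR33
import Cfsg.Agent.Lib.Helper6.TCD.ONa.CR34
import Cfsg.Agent.Lib.Helper6.TCD.ONa.CR35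
import Cfsg.Agent.Lib.Helper6.TCD.ONa.CR36
import Cfsg.Agent.Lib.Helper6.TCD.ONa.CR37
import Cfsg.Agent.Lib.Helper6.TCD.ONa.CR38
import Cfsg.Agent.Lib.Helper6.TCD.ONa.CR39
import Cfsg.Agent.Lib.Helper6.TCD.ONa.CR40
import Cfsg.Agent.Lib.Helper6.TCD.ONa.CR41
import Cfsg.Agent.Lib.Helper6.TCD.ONa.CR42
import Cfsg.Agent.Lib.Helper6.TCD.ONa.CR43
import Cfsg.Agent.Lib.Helper6.TCD.ONa.CR44
import Cfsg.Agent.Lib.Helper6.TCD.ONa.CR45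
import Cfsg.Agent.Lib.Helper6.TCD.ONa.CR46
import Cfsg.Agent.Lib.Helper6.TCD.ONa.CR47
import Cfsg.Agent.Lib.Helper6.TCD.ONa.CR48
import Cfsg.Agent.Lib.Helper6.TCD.ONa.CR49
import Cfsg.Agent.Lib.Helper6.TCD.ONa.CR50
import Cfsg.Agent.Lib.Helper6.TCD.ONa.CR51
import Cfsg.Agent.Lib.Helper6.TCD.ONa.CR52
import Cfsg.Agent.Lib.Helper6.TCD.ONa.CR53
import Cfsg.Agent.Lib.Helper6.TCD.ONa.CR54
import Cfsg.Agent.Lib.Helper6.TCD.ONa.CR55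
import Cfsg.Agent.Lib.Helper6.TCD.ONa.CR56
import Cfsg.Agent.Lib.Helper6.TCD.ONa.CR57
import Cfsg.Agent.Lib.Helper6.TCD.ONa.CR58
import Cfsg.Agent.Lib.Helper6.TCD.ONa.CR59
import Cfsg.Agent.Lib.Helper6.TCD.ONa.CR60
import Cfsg.Agent.Lib.Helper6.TCD.ONa.CR61
import Cfsg.Agent.Lib.Helper6.TCD.ONa.CR62
import Cfsg.Agent.Lib.Helper6.TCD.ONa.CR63
import Cfsg.Agent.Lib.Helper6.TCD.ONa.CR64
import Cfsg.Agent.Lib.Helper6.TCD.ONa.CR65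
import Cfsg.Agent.Lib.Helper6.TCD.ONa.CR66
import Cfsg.Agent.Lib.Helper6.TCD.ONa.CR67
import Cfsg.Agent.Lib.Helper6.TCD.ONa.CR68
import Cfsg.Agent.Lib.Helper6.TCD.ONa.CR69
import Cfsg.Agent.Lib.Helper6.TCD.ONa.CR70
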