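import Cfsg.Agent.Lib.Helper6.TCD.ONa.SHP0
import Cfsg.Agent.Lib.Helper6.TCD.ONa.SHP1
import Cfsg.Agent.Lib.Helper6.TCD.ONa.SHP2
import Cfsg.Agent.Lib.Helper6.TCD.ONa.SHP3
import Cfsg.Agent.Lib.Helper6.TCD.ONa.SHP4
import Cfsg.Agent.Lib.Helper6.TCD.ONa.SHP5
import Cfsg.Agent.Lib.Helper6.TCD.ONa.SHP6
import Cfsg.Agent.Lib.Helper6.TCD.ONa.SHP7
import Cfsg.Agent.Lib.Helper6.TCD.ONa.SHP8
import Cfsg.Agent.Lib.Helper6.TCD.ONa.SHP9
import Cfsg.Agent.Lib.Helper6.TCD.ONa.SHP10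
import Cfsg.Agent.Lib.Helper6.TCD.ONa.SHP11
import Cfsg.Agent.Lib.Helper6.TCD.ONa.SHP12
import Cfsg.Agent.Lib.Helper6.TCD.ONa.SHP13
import Cfsg.Agent.Lib.Helper6.TCD.ONa.SHP14
import Cfsg.Agent.Lib.Helper6.TCD.ONa.SHP15
import Cfsg.Agent.Lib.Helper6.TCD.ONa.SHP16
import Cfsg.Agent.Lib.Helper6.TCD.ONa.SHP17
import Cfsg.Agent.Lib.Helper6.TCD.ONa.SHP18
import Cfsg.Agent.Lib.Helper6.TCD.ONa.SHP19
import Cfsg.Agent.Lib.Helper6.TCD.ONa.SHP20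
import Cfsg.Agent.Lib.Helper6.TCD.ONa.SHP21
import Cfsg.Agent.Lib.Helper6.TCD.ONa.SHP22
import Cfsg.Agent.Lib.Helper6.TCD.ONa.SHP23
import Cfsg.Agent.Lib.Helper6.TCD.ONa.SHP24
import Cfsg.Agent.Lib.Helper6.TCD.ONa.SHP25
import Cfsg.Agent.Lib.Helper6.TCD.ONa.SHP26
import Cfsg.Agent.Lib.Helper6.TCD.ONa.SHP27
set_option autoImplicit false
namespace Cfsg.Agent.Lib.Helper6.TCD.ONa
noncomputable def SHT0 (i : Nat) : Nat := Bool.rec (SHP0N62 i) (SHP1N62 i) (Nat.ble 65536 i)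
noncomputable def SHT1 (i : Nat) : Nat := Bool.rec (SHP2N62 i) (SHP3N62 i) (Nat.ble 196608 i)
noncomputable def SHT2 (i : Nat) : Nat := Bool.rec (SHT0 i) (SHT1 i) (Nat.ble 131072 i)
noncomputable def SHT3 (i : Nat) : Nat := Bool.rec (SHP4N62 i) (SHP5N62 i) (Nat.ble 327680 i)
noncomputable def SHT4 (i : Nat) : Nat := Bool.rec (SHT3 i) (SHP6N62 i) (Nat.ble 393216 i)
noncomputable def SHT5 (i : Nat) : Nat := Bool.rec (SHT2 i) (SHT4 i) (Nat.ble 262144 i)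
noncomputable def SHT6 (i : Nat) : Nat := Bool.rec (SHP7N62 i) (SHP8N62 i) (Nat.ble 524288 i)
noncomputable def SHT7 (i : Nat) : Nat := Bool.rec (SHP9N62 i) (SHP10N62 i) (Nat.ble 655360 i)
noncomputable def SHT8 (i : Nat) : Nat := Bool.rec (SHT6 i) (SHT7 i) (Nat.ble 589824 i)
noncomputable def SHT9 (i : Nat) : Nat := Bool.rec (SHP11N62 i) (SHP12N62 i) (Nat.ble 786432 i)
noncomputable def SHT10 (i : Nat) : Nat := Bool.rec (SHT9 i) (SHP13N62 i) (Nat.ble 851968 i)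
noncomputable def SHT11 (i : Nat) : Nat := Bool.rec (SHT8 i) (SHT10 i) (Nat.ble 720896 i)
noncomputable def SHT12 (i : Nat) : Nat := Bool.rec (SHT5 i) (SHT11 i) (Nat.ble 458752 i)
noncomputable def SHT13 (i : Nat) : Nat := Bool.rec (SHP14N62 i) (SHP15N62 i) (Nat.ble 983040 i)
noncomputable def SHT14 (i : Nat) : Nat := Bool.rec (SHP16N62 i) (SHP17N62 i) (Nat.ble 1114112 i)
noncomputable def SHT15 (i : Nat) : Nat := Bool.rec (SHT13 i) (SHT14 i) (Nat.ble 1048576 i)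
noncomputable def SHT16 (i : Nat) : Nat := Bool.rec (SHP18N62 i) (SHP19N62 i) (Nat.ble 1245184 i)
noncomputable def SHT17 (i : Nat) : Nat := Bool.rec (SHT16 i) (SHP20N62 i) (Nat.ble 1310720 i)
noncomputable def SHT18 (i : Nat) : Nat := Bool.rec (SHT15 i) (SHT17 i) (Nat.ble 1179648 i)
noncomputable def SHT19 (i : Nat) : Nat := Bool.rec (SHP21N62 i) (SHP22N62 i) (Nat.ble 1441792 i)
noncomputable def SHT20 (i : Nat) : Nat := Bool.rec (SHP23N62 i) (SHP24N62 i) (Nat.ble 1572864 i)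
noncomputable def SHT21 (i : Nat) : Nat := Bool.rec (SHT19 i) (SHT20 i) (Nat.ble 1507328 i)
noncomputable def SHT22 (i : Nat) : Nat := Bool.rec (SHP25N62 i) (SHP26N62 i) (Nat.ble 1703936 i)
noncomputable def SHT23 (i : Nat) : Nat := Bool.rec (SHT22 i) (SHP27N56 i) (Nat.ble 1769472 i)
noncomputable def SHT24 (i : Nat) : Nat := Bool.rec (SHT21 i) (SHT23 i) (Nat.ble 1638400 i)
noncomputable def SHT25 (i : Nat) : Nat := Bool.rec (SHT18 i) (SHT24 i) (Nat.ble 1376256 i)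
noncomputable def SH (i : Nat) : Nat := Bool.rec (SHT12 i) (SHT25 i) (Nat.ble 917504 i)
end Cfsg.Agent.Lib.Helper6.TCD.ONa
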